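import Groth.Agent.PullStalk.Basic
import Groth.Agent.PullStalk.Exact
import Groth.Prelude.Def_FlatMod2
import Groth.Prelude.Def_Pic
import Mathlib.RingTheory.TensorProduct.IsBaseChangeFree

/-!
# Frames of sheaves of modules

`IsFrame M U e`: the sections `e₁, …, eₙ` of `M` over `U` form a basis of `M(V)` over `O(V)` for every
open `V ≤ U`.  Frames can be detected on stalks, and pull back along morphisms of schemes.
-/

set_option autoImplicit false
set_option backward.isDefEq.respectTransparency false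
set_option backward.isDefEq.respectTransparency.types false

universe u

open CategoryTheory CategoryTheory.Limits AlgebraicGeometry TopologicalSpace Opposite
open Groth.Agent.PullStalk.Sky

noncomputable section

namespace Groth.Agent.LFFrame

variable {X Y : Scheme.{u}}

/-- The combination of restricted sections with coefficients on a smaller open. -/
def comb (M : X.Modules) {U : X.Opens} {n : ℕ} (e : Fin n → Γ(M, U)) {V : X.Opens} (h : V ≤ U)
    (a : Fin n → Γ(X, V)) : Γ(M, V) :=
  ∑ i, a i • M.presheaf.map (homOfLE h).op (e i)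

/-- `e` is a basis of `M` on every open contained in `U`. -/
def IsFrame (M : X.Modules) (U : X.Opens) {n : ℕ} (e : Fin n → Γ(M, U)) : Prop :=
  ∀ (V : X.Opens) (h : V ≤ U), Function.Bijective (comb M e h)

lemma res_res (M : X.Modules) {U V W : X.Opens} (h : V ≤ U) (h' : W ≤ V) (m : Γ(M, U)) :
    M.presheaf.map (homOfLE h').op (M.presheaf.map (homOfLE h).op m) =
      M.presheaf.map (homOfLE (h'.trans h)).op m := by
  rw [← ConcreteCategory.comp_apply, ← Functor.map_comp]
  rfl

lemma res_comb (M : X.Modules) {U : X.Opens} {n : ℕ} (e : Fin n → Γ(M, U)) {V W : X.Opens}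
    (h : V ≤ U) (h' : W ≤ V) (a : Fin n → Γ(X, V)) :
    M.presheaf.map (homOfLE h').op (comb M e h a) =
      comb M e (h'.trans h) (fun i => X.presheaf.map (homOfLE h').op (a i)) := by
  simp only [comb, map_sum, Scheme.Modules.map_smul, res_res]

lemma germ_comb (M : X.Modules) {U : X.Opens} {n : ℕ} (e : Fin n → Γ(M, U)) {V : X.Opens}
    (h : V ≤ U) (a : Fin n → Γ(X, V)) (x : X) (hx : x ∈ V) :
    germM M V x hx (comb M e h a) =
      ∑ i, X.presheaf.germ V x hx (a i) • germM M U x (h hx) (e i) := by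
  rw [germM, comb, map_sum]
  refine Finset.sum_congr rfl fun i _ => ?_
  refine (germM_smul M V x hx _ _).trans ?_
  congr 1
  exact M.presheaf.germ_res_apply (homOfLE h) x hx (e i)

/-- The combination of germs. -/
def stalkComb (M : X.Modules) {U : X.Opens} {n : ℕ} (e : Fin n → Γ(M, U)) (x : X) (hx : x ∈ U) :
    (Fin n → X.presheaf.stalk x) →ₗ[X.presheaf.stalk x] M.presheaf.stalk x :=
  Fintype.linearCombination (X.presheaf.stalk x) (fun i => germM M U x hx (e i))

theorem IsFrame.stalkComb_bijective {M : X.Modules} {U : X.Opens} {n : ℕ} {e : Fin n → Γ(M, U)}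
    (he : IsFrame M U e) (x : X) (hx : x ∈ U) : Function.Bijective (stalkComb M e x hx) := by
  constructor
  · rw [injective_iff_map_eq_zero]
    intro a ha
    choose V hxV r hr using fun i => X.presheaf.exists_germ_eq (x := x) (a i)
    have hfin : ∃ W : X.Opens, x ∈ W ∧ W ≤ U ∧ ∀ i, W ≤ V i :=
      ⟨⟨(U : Set X) ∩ ⋂ i, (V i : Set X), U.2.inter (isOpen_iInter_of_finite fun i => (V i).2)⟩,
        ⟨hx, Set.mem_iInter.2 hxV⟩, Set.inter_subset_left,
        fun i => Set.inter_subset_right.trans (Set.iInter_subset _ i)⟩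
    obtain ⟨W, hxW, hWU, hWV⟩ := hfin
    let r' : Fin n → Γ(X, W) := fun i => X.presheaf.map (homOfLE (hWV i)).op (r i)
    have hr' : ∀ i, X.presheaf.germ W x hxW (r' i) = a i := fun i => by
      rw [← hr i]
      exact X.presheaf.germ_res_apply (homOfLE (hWV i)) x hxW (r i)
    have h0 : germM M W x hxW (comb M e hWU r') = M.presheaf.germ W x hxW 0 := by
      rw [map_zero, germ_comb]
      simp only [hr']
      exact ha
    obtain ⟨W', hxW', i₁, i₂, h1⟩ := M.presheaf.germ_eq x hxW hxW _ _ h0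
    rw [map_zero] at h1
    have h2 : comb M e (i₁.le.trans hWU) (fun i => X.presheaf.map (homOfLE i₁.le).op (r' i)) =
        comb M e (i₁.le.trans hWU) 0 := by
      rw [← res_comb]
      refine h1.trans ?_
      simp [comb]
    funext i
    have h3 : X.presheaf.map (homOfLE i₁.le).op (r' i) = 0 := congrFun ((he _ _).1 h2) i
    rw [← hr' i, Pi.zero_apply, ← X.presheaf.germ_res_apply (homOfLE i₁.le) x hxW' (r' i), h3,
      map_zero]
  · intro t
    obtain ⟨V, hxV, m, rfl⟩ := exists_germM_eq M x t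
    obtain ⟨a, ha⟩ := (he (V ⊓ U) inf_le_right).2 (M.presheaf.map (homOfLE inf_le_left).op m)
    refine ⟨fun i => X.presheaf.germ (V ⊓ U) x ⟨hxV, hx⟩ (a i), ?_⟩
    refine (germ_comb M e (inf_le_right : V ⊓ U ≤ U) a x ⟨hxV, hx⟩).symm.trans ?_
    rw [ha]
    exact M.presheaf.germ_res_apply (homOfLE (inf_le_left : V ⊓ U ≤ V)) x ⟨hxV, hx⟩ m

theorem isFrame_of_stalkComb_bijective {M : X.Modules} {U : X.Opens} {n : ℕ}
    {e : Fin n → Γ(M, U)} (he : ∀ (x : X) (hx : x ∈ U), Function.Bijective (stalkComb M e x hx)) :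
    IsFrame M U e := by
  let Mf : TopCat.Sheaf Ab.{u} X := ⟨M.presheaf, M.isSheaf⟩
  have hinj : ∀ (V : X.Opens) (h : V ≤ U), Function.Injective (comb M e h) := by
    intro V h a b hab
    funext i
    refine TopCat.Presheaf.section_ext X.sheaf V _ _ fun x hx => ?_
    have h1 : stalkComb M e x (h hx) (fun i => X.presheaf.germ V x hx (a i)) =
        stalkComb M e x (h hx) (fun i => X.presheaf.germ V x hx (b i)) :=
      (germ_comb M e h a x hx).symm.trans ((congrArg _ hab).trans (germ_comb M e h b x hx))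
    exact congrFun ((he x (h hx)).1 h1) i
  refine fun V h => ⟨hinj V h, fun t => ?_⟩
  have hloc : ∀ x : V, ∃ (W : X.Opens) (hW : W ≤ V) (_ : x.1 ∈ W) (a : Fin n → Γ(X, W)),
      comb M e (hW.trans h) a = M.presheaf.map (homOfLE hW).op t := by
    rintro ⟨x, hx⟩
    obtain ⟨a, ha⟩ := (he x (h hx)).2 (germM M V x hx t)
    choose W hxW r hr using fun i => X.presheaf.exists_germ_eq (x := x) (a i)
    let W₀ : X.Opens := ⟨(V : Set X) ∩ ⋂ i, (W i : Set X),
      V.2.inter (isOpen_iInter_of_finite fun i => (W i).2)⟩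
    have hxW₀ : x ∈ W₀ := ⟨hx, Set.mem_iInter.2 hxW⟩
    have hW₀V : W₀ ≤ V := Set.inter_subset_left
    have hW₀ : ∀ i, W₀ ≤ W i := fun i => Set.inter_subset_right.trans (Set.iInter_subset _ i)
    let r' : Fin n → Γ(X, W₀) := fun i => X.presheaf.map (homOfLE (hW₀ i)).op (r i)
    have hr' : ∀ i, X.presheaf.germ W₀ x hxW₀ (r' i) = a i := fun i => by
      rw [← hr i]
      exact X.presheaf.germ_res_apply (homOfLE (hW₀ i)) x hxW₀ (r i)
    have h0 : germM M W₀ x hxW₀ (comb M e (hW₀V.trans h) r') =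
        germM M W₀ x hxW₀ (M.presheaf.map (homOfLE hW₀V).op t) := by
      rw [germ_comb]
      simp only [hr']
      refine Eq.trans ?_ (M.presheaf.germ_res_apply (homOfLE hW₀V) x hxW₀ t).symm
      exact ha
    obtain ⟨W₁, hxW₁, i₁, i₂, h1⟩ := M.presheaf.germ_eq x hxW₀ hxW₀ _ _ h0
    refine ⟨W₁, i₁.le.trans hW₀V, hxW₁, fun i => X.presheaf.map (homOfLE i₁.le).op (r' i), ?_⟩
    rw [← res_comb, ← res_res M hW₀V i₁.le]
    exact h1
  choose W hWV hxW a ha using hloc
  have hcov : V ≤ iSup W := fun x hx => Opens.mem_iSup.2 ⟨⟨x, hx⟩, hxW _⟩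
  have hcomp : ∀ i : Fin n, TopCat.Presheaf.IsCompatible X.sheaf.1 W (fun x => a x i) := by
    intro i x y
    have h1 : comb M e (inf_le_left.trans ((hWV x).trans h))
          (fun i => X.presheaf.map (homOfLE (inf_le_left : W x ⊓ W y ≤ W x)).op (a x i)) =
        comb M e (inf_le_left.trans ((hWV x).trans h))
          (fun i => X.presheaf.map (homOfLE (inf_le_right : W x ⊓ W y ≤ W y)).op (a y i)) := by
      refine (res_comb M e ((hWV x).trans h) _ (a x)).symm.trans
        (Eq.trans ?_ (res_comb M e ((hWV y).trans h) _ (a y)))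
      rw [ha, ha, res_res, res_res]
    exact congrFun (hinj _ _ h1) i
  choose b hb _ using fun i => TopCat.Sheaf.existsUnique_gluing' X.sheaf W V
    (fun x => homOfLE (hWV x)) hcov (fun x => a x i) (hcomp i)
  refine ⟨b, TopCat.Sheaf.eq_of_locally_eq' Mf W V (fun x => homOfLE (hWV x)) hcov _ _ fun x => ?_⟩
  refine (res_comb M e h (hWV x) b).trans ?_
  refine Eq.trans ?_ (ha x)
  exact congrArg _ (funext fun i => hb i x)

/-! ### Pullback of frames -/

/-- The unit `M ⟶ f_* f^* M` on sections. -/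
def unitSec (f : X ⟶ Y) (M : Y.Modules) (U : Y.Opens) :
    Γ(M, U) →+ Γ((Scheme.Modules.pullback f).obj M, f ⁻¹ᵁ U) :=
  (((Scheme.Modules.pullbackPushforwardAdjunction f).unit.app M).app U).hom

theorem IsFrame.pullback (f : X ⟶ Y) {M : Y.Modules} {U : Y.Opens} {n : ℕ} {e : Fin n → Γ(M, U)}
    (he : IsFrame M U e) :
    IsFrame ((Scheme.Modules.pullback f).obj M) (f ⁻¹ᵁ U) (fun i => unitSec f M U (e i)) := by
  refine isFrame_of_stalkComb_bijective fun x hx => ?_
  let := (f.stalkMap x).hom.toAlgebra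
  let := PullStalk.Basic.moduleOver f M x
  have : IsScalarTower (Y.presheaf.stalk (f x)) (X.presheaf.stalk x)
        (((Scheme.Modules.pullback f).obj M).presheaf.stalk x) :=
      IsScalarTower.of_algebraMap_smul fun _ _ => rfl
  let b : Module.Basis (Fin n) (Y.presheaf.stalk (f x)) (M.presheaf.stalk (f x)) :=
    Module.Basis.ofEquivFun (LinearEquiv.ofBijective (stalkComb M e (f x) hx)
      (he.stalkComb_bijective (f x) hx)).symm
  have hb : ∀ i, b i = germM M U (f x) hx (e i) := fun i => by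
    simp [b, stalkComb, Fintype.linearCombination_apply_single]
  let b' := (PullStalk.Basic.isBaseChange_unitStalk f M x).basis b
  have hb' : ∀ i, b' i =
      germM ((Scheme.Modules.pullback f).obj M) (f ⁻¹ᵁ U) x hx (unitSec f M U (e i)) := fun i => by
    rw [IsBaseChange.basis_apply, hb]
    exact PullStalk.Basic.unitStalkHom_germ f M x U hx (e i)
  have : stalkComb ((Scheme.Modules.pullback f).obj M) (fun i => unitSec f M U (e i)) x hx =
      b'.equivFun.symm.toLinearMap := by
    apply LinearMap.ext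
    intro a
    simp [stalkComb, Fintype.linearCombination_apply, Module.Basis.equivFun_symm_apply, hb']
  rw [this]
  exact b'.equivFun.symm.bijective

lemma unitSec_res (f : X ⟶ Y) (M : Y.Modules) {U V : Y.Opens} (h : V ≤ U) (m : Γ(M, U)) :
    unitSec f M V (M.presheaf.map (homOfLE h).op m) =
      ((Scheme.Modules.pullback f).obj M).presheaf.map (homOfLE (f.preimage_mono h)).op
        (unitSec f M U m) :=
  NatTrans.naturality_apply ((Scheme.Modules.pullbackPushforwardAdjunction f).unit.app M).mapPresheaf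
    (homOfLE h).op m

lemma unitSec_smul (f : X ⟶ Y) (M : Y.Modules) (U : Y.Opens) (r : Γ(Y, U)) (m : Γ(M, U)) :
    unitSec f M U (r • m) = f.app U r • unitSec f M U m :=
  Scheme.Modules.Hom.app_smul _ _ _

theorem IsFrame.unitSec_bijective (f : X ⟶ Y) (hf : ∀ U : Y.Opens, Function.Bijective (f.app U))
    {M : Y.Modules} {U : Y.Opens} {n : ℕ} {e : Fin n → Γ(M, U)} (he : IsFrame M U e)
    (V : Y.Opens) (h : V ≤ U) : Function.Bijective (unitSec f M V) := by
  have h1 : ∀ a : Fin n → Γ(Y, V), unitSec f M V (comb M e h a) =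
      comb ((Scheme.Modules.pullback f).obj M) (fun i => unitSec f M U (e i)) (f.preimage_mono h)
        (fun i => f.app V (a i)) := fun a => by
    simp only [comb, map_sum, unitSec_smul, unitSec_res f M h]
  have h2 : Function.Bijective (fun a : Fin n → Γ(Y, V) => fun i => f.app V (a i)) :=
    Function.Bijective.piMap fun _ => hf V
  rw [← Function.Bijective.of_comp_iff _ (he V h)]
  have : (unitSec f M V) ∘ comb M e h = comb ((Scheme.Modules.pullback f).obj M)
      (fun i => unitSec f M U (e i)) (f.preimage_mono h) ∘ (fun a => fun i => f.app V (a i)) :=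
    funext h1
  rw [this]
  exact ((he.pullback f) _ _).comp h2

/-- A morphism of modules bijective on all small opens is an isomorphism. -/
theorem isIso_of_locally_bijective {M N : X.Modules} (φ : M ⟶ N)
    (h : ∀ x : X, ∃ U : X.Opens, x ∈ U ∧ ∀ V ≤ U, Function.Bijective (φ.app V)) : IsIso φ := by
  rw [Scheme.Modules.Hom.isIso_iff_isIso_app]
  intro V
  rw [ConcreteCategory.isIso_iff_bijective]
  let Mf : TopCat.Sheaf Ab.{u} X := ⟨M.presheaf, M.isSheaf⟩
  let Nf : TopCat.Sheaf Ab.{u} X := ⟨N.presheaf, N.isSheaf⟩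
  let φf : Mf ⟶ Nf := ⟨φ.mapPresheaf⟩
  refine TopCat.Presheaf.app_bijective_of_stalkFunctor_map_bijective φf V fun x _ => ?_
  obtain ⟨U, hxU, hU⟩ := h x
  change Function.Bijective (PullStalk.Exact.stalkLin φ x)
  constructor
  · rw [injective_iff_map_eq_zero]
    intro t ht
    obtain ⟨W, hxW, m, rfl⟩ := exists_germM_eq M x t
    rw [PullStalk.Exact.stalkLin_germ] at ht
    obtain ⟨W', hxW', i₁, i₂, h1⟩ := N.presheaf.germ_eq x hxW hxW (φ.app W m) 0
      (ht.trans (map_zero (N.presheaf.germ W x hxW).hom).symm)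
    have h2 : φ.app (W' ⊓ U) (M.presheaf.map (homOfLE (inf_le_left.trans i₁.le)).op m) =
        φ.app (W' ⊓ U) 0 := by
      rw [map_zero]
      refine (NatTrans.naturality_apply φ.mapPresheaf
        (homOfLE (inf_le_left.trans i₁.le : W' ⊓ U ≤ W)).op m).trans ?_
      change N.presheaf.map _ (φ.app W m) = 0
      rw [← res_res N i₁.le (inf_le_left : W' ⊓ U ≤ W')]
      rw [show N.presheaf.map (homOfLE i₁.le).op (φ.app W m) = N.presheaf.map i₂.op 0 from h1,
        map_zero, map_zero]
    have h3 := (hU _ inf_le_right).1 h2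
    rw [germM, ← M.presheaf.germ_res_apply (homOfLE (inf_le_left.trans i₁.le : W' ⊓ U ≤ W)) x
      ⟨hxW', hxU⟩ m, h3, map_zero]
  · intro t
    obtain ⟨W, hxW, m, rfl⟩ := exists_germM_eq N x t
    obtain ⟨s, hs⟩ := (hU (W ⊓ U) inf_le_right).2 (N.presheaf.map (homOfLE inf_le_left).op m)
    refine ⟨germM M (W ⊓ U) x ⟨hxW, hxU⟩ s, ?_⟩
    rw [PullStalk.Exact.stalkLin_germ, hs]
    exact N.presheaf.germ_res_apply (homOfLE (inf_le_left : W ⊓ U ≤ W)) x ⟨hxW, hxU⟩ m

/-- The unit `M ⟶ f_* f^* M` is an isomorphism when `M` has frames and `O ≅ f_* O`. -/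
theorem isIso_unit (f : X ⟶ Y) (hf : ∀ U : Y.Opens, Function.Bijective (f.app U)) (M : Y.Modules)
    (h : ∀ y : Y, ∃ (U : Y.Opens) (n : ℕ) (e : Fin n → Γ(M, U)), y ∈ U ∧ IsFrame M U e) :
    IsIso ((Scheme.Modules.pullbackPushforwardAdjunction f).unit.app M) := by
  refine isIso_of_locally_bijective _ fun y => ?_
  obtain ⟨U, n, e, hy, he⟩ := h y
  exact ⟨U, hy, fun V hV => he.unitSec_bijective f hf V hV⟩

/-! ### Frames of (locally) free modules -/

variable {U : X.Opens} {M : X.Modules}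

/-- The value at `1` on `U.ι ''ᵁ V` of a morphism from `O_U` to `M|_U`. -/
def oneVal (ι : Coh.structureModule (U : Scheme.{u}) ⟶ M.restrict U.ι) (V : (U : Scheme.{u}).Opens) :
    Γ(M, U.ι ''ᵁ V) :=
  ι.app V (1 : Γ((U : Scheme.{u}), V))

lemma le_image_preimage {V : X.Opens} (h : V ≤ U) : U.ι ''ᵁ (U.ι ⁻¹ᵁ V) = V := by
  rw [Scheme.Hom.image_preimage_eq_opensRange_inf, Scheme.Opens.opensRange_ι]
  exact inf_eq_right.2 h

theorem exists_isFrame_of_split {n : ℕ}
    (ι : Fin n → (Coh.structureModule (U : Scheme.{u}) ⟶ M.restrict U.ι))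
    (π : Fin n → (M.restrict U.ι ⟶ Coh.structureModule (U : Scheme.{u})))
    (hδ : ∀ i j, ι i ≫ π j = if i = j then 𝟙 _ else 0) (hsum : ∑ i, π i ≫ ι i = 𝟙 _) :
    ∃ e : Fin n → Γ(M, U), IsFrame M U e := by
  classical
  let e : Fin n → Γ(M, U) := fun i =>
    M.presheaf.map (homOfLE (le_image_preimage le_rfl).ge).op (oneVal (ι i) (U.ι ⁻¹ᵁ U))
  refine ⟨e, fun V hV => ?_⟩
  obtain ⟨V', rfl⟩ : ∃ V' : (U : Scheme.{u}).Opens, U.ι ''ᵁ V' = V :=
    ⟨U.ι ⁻¹ᵁ V, le_image_preimage hV⟩
  have he : ∀ i, M.presheaf.map (homOfLE hV).op (e i) = oneVal (ι i) V' := by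
    intro i
    have hle : V' ≤ U.ι ⁻¹ᵁ U := fun x _ => x.2
    have h1 := NatTrans.naturality_apply (ι i).mapPresheaf (homOfLE hle).op
      (1 : Γ((U : Scheme.{u}), U.ι ⁻¹ᵁ U))
    have h2 : (Coh.structureModule (U : Scheme.{u})).presheaf.map (homOfLE hle).op
        (1 : Γ((U : Scheme.{u}), U.ι ⁻¹ᵁ U)) = (1 : Γ((U : Scheme.{u}), V')) :=
      map_one ((U : Scheme.{u}).presheaf.map (homOfLE hle).op).hom
    refine (res_res M _ hV _).trans ?_
    refine h1.symm.trans ?_
    exact congrArg ((ι i).app V') h2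
  have hlin : ∀ i (a : Γ((U : Scheme.{u}), V')), (ι i).app V' a =
      (show Γ(X, U.ι ''ᵁ V') from a) • oneVal (ι i) V' := by
    intro i a
    have h1 := Scheme.Modules.Hom.app_smul (ι i) a (1 : Γ((U : Scheme.{u}), V'))
    refine Eq.trans ?_ (h1.trans ?_)
    · exact congrArg ((ι i).app V') (mul_one a).symm
    · change (U.ι.appIso V').inv a • oneVal (ι i) V' = _
      rw [Scheme.Opens.ι_appIso]
      rfl
  have hcomb : ∀ a : Fin n → Γ(X, U.ι ''ᵁ V'), comb M e hV a =
      ∑ i, (ι i).app V' (show Γ((U : Scheme.{u}), V') from a i) := fun a => by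
    simp only [comb, he, hlin]
  have hπι : ∀ i j (a : Γ((U : Scheme.{u}), V')),
      (π j).app V' ((ι i).app V' a) = if i = j then a else 0 := by
    intro i j a
    have h1 := congrArg (fun (φ : Coh.structureModule (U : Scheme.{u}) ⟶ Coh.structureModule (U : Scheme.{u})) =>
      Scheme.Modules.Hom.app φ V' a) (hδ i j)
    refine h1.trans ?_
    split_ifs <;> rfl
  constructor
  · intro a b hab
    funext j
    have key : ∀ a : Fin n → Γ(X, U.ι ''ᵁ V'), (π j).app V' (comb M e hV a) = a j := fun a => by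
      rw [hcomb]
      refine (map_sum ((π j).app V').hom _ _).trans ?_
      exact (Finset.sum_congr rfl fun i _ => hπι i j _).trans (by simp)
    exact (key a).symm.trans ((congrArg ((π j).app V') hab).trans (key b))
  · intro t
    refine ⟨fun i => (π i).app V' t, ?_⟩
    rw [hcomb]
    have h1 := congrArg (fun φ => Scheme.Modules.Hom.app φ V' t) hsum
    refine Eq.trans ?_ h1
    let ev : (M.restrict U.ι ⟶ M.restrict U.ι) →+ Γ(M.restrict U.ι, V') :=
      AddMonoidHom.mk' (fun φ => Scheme.Modules.Hom.app φ V' t) (fun φ ψ => rfl)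
    exact (map_sum ev (fun i => π i ≫ ι i) Finset.univ).symm

theorem exists_isFrame_of_isFinLocFree (hM : FlatMod.IsFinLocFree M) (x : X) :
    ∃ (U : X.Opens) (n : ℕ) (e : Fin n → Γ(M, U)), x ∈ U ∧ IsFrame M U e := by
  classical
  obtain ⟨U, n, hx, ⟨φ⟩⟩ := hM x
  let p : Fin n → (FlatMod.freeMod (U : Scheme.{u}) n ⟶ Coh.structureModule (U : Scheme.{u})) :=
    fun j => Sigma.desc fun i => if i = j then 𝟙 _ else 0
  obtain ⟨e, he⟩ := exists_isFrame_of_split (M := M)
    (fun i => Sigma.ι (fun _ : Fin n => Coh.structureModule (U : Scheme.{u})) i ≫ φ.inv)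
    (fun j => φ.hom ≫ p j) (fun i j => by simp [p]) (by
      rw [← cancel_epi φ.inv, ← cancel_mono φ.hom]
      apply Sigma.hom_ext
      intro j
      simp [p, Preadditive.comp_sum, Preadditive.sum_comp, Finset.sum_ite_eq', ite_comp])
  exact ⟨U, n, e, hx, he⟩

theorem exists_isFrame_of_isInvertible (hM : PicF.IsInvertible M) (x : X) :
    ∃ (U : X.Opens) (n : ℕ) (e : Fin n → Γ(M, U)), x ∈ U ∧ IsFrame M U e := by
  obtain ⟨U, hx, ⟨φ⟩⟩ := hM x
  obtain ⟨e, he⟩ := exists_isFrame_of_split (M := M) (fun _ : Fin 1 => φ.inv) (fun _ => φ.hom)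
    (fun i j => by simp [Subsingleton.elim i j]) (by simp)
  exact ⟨U, 1, e, hx, he⟩

end Groth.Agent.LFFrame

namespace Groth.Agent.LFFrame

variable {X Y : Scheme.{u}}

/-- A frame with one element gives an isomorphism with the structure sheaf. -/
theorem IsFrame.nonempty_restrict_iso {M : X.Modules} {U : X.Opens} {e : Fin 1 → Γ(M, U)}
    (he : IsFrame M U e) : Nonempty (M.restrict U.ι ≅ Coh.structureModule (U : Scheme.{u})) := by
  have hle : ∀ V : (U : Scheme.{u}).Opens, U.ι ''ᵁ V ≤ U := fun V => U.ι_image_le V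
  let φ : Coh.structureModule (U : Scheme.{u}) ⟶ M.restrict U.ι :=
    ⟨PresheafOfModules.homMk
      { app := fun V => AddCommGrpCat.ofHom (show Γ(X, U.ι ''ᵁ V.unop) →+ Γ(M, U.ι ''ᵁ V.unop) from
          AddMonoidHom.mk' (fun a => a • M.presheaf.map (homOfLE (hle V.unop)).op (e 0))
          fun a b => add_smul a b _)
        naturality := fun {V W} i => by
          ext a
          let j : U.ι ''ᵁ W.unop ≤ U.ι ''ᵁ V.unop := U.ι.image_mono i.unop.le
          let a' : Γ(X, U.ι ''ᵁ V.unop) := a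
          change X.presheaf.map (homOfLE j).op a' • M.presheaf.map (homOfLE (hle W.unop)).op (e 0) =
            M.presheaf.map (homOfLE j).op (a' • M.presheaf.map (homOfLE (hle V.unop)).op (e 0))
          rw [Scheme.Modules.map_smul, res_res] }
      (fun V (r : Γ((U : Scheme.{u}), V.unop)) (a : Γ((U : Scheme.{u}), V.unop)) => by
        let r' : Γ(X, U.ι ''ᵁ V.unop) := r
        let a' : Γ(X, U.ι ''ᵁ V.unop) := a
        change (r' * a') • M.presheaf.map (homOfLE (hle V.unop)).op (e 0) =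
          ((U.ι.appIso V.unop).inv r) • (a' • M.presheaf.map (homOfLE (hle V.unop)).op (e 0))
        rw [mul_smul, Scheme.Opens.ι_appIso]
        rfl)⟩
  have : IsIso φ := by
    refine isIso_of_locally_bijective φ fun x => ⟨⊤, trivial, fun V _ => ?_⟩
    have h2 : Function.Bijective (fun a : Γ(X, U.ι ''ᵁ V) => (fun _ => a : Fin 1 → Γ(X, U.ι ''ᵁ V))) :=
      ⟨fun a b h => congrFun h 0, fun a => ⟨a 0, funext fun i => by rw [Subsingleton.elim i 0]⟩⟩
    have h3 := (he _ (hle V)).comp h2
    have h4 : (comb M e (hle V) ∘ fun a : Γ(X, U.ι ''ᵁ V) => (fun _ => a : Fin 1 → Γ(X, U.ι ''ᵁ V))) =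
        fun a : Γ(X, U.ι ''ᵁ V) => a • M.presheaf.map (homOfLE (hle V)).op (e 0) := by
      funext a
      simp only [Function.comp_apply, comb, Fin.sum_univ_one]
    rw [h4] at h3
    exact h3
  exact ⟨(asIso φ).symm⟩

/-- Frames of `L` over `f⁻¹ U` are frames of `f_* L` over `U` when `O ≅ f_* O`. -/
theorem IsFrame.pushforward (f : X ⟶ Y) (hf : ∀ U : Y.Opens, Function.Bijective (f.app U))
    {L : X.Modules} {U : Y.Opens} {n : ℕ} {e : Fin n → Γ(L, f ⁻¹ᵁ U)}
    (he : IsFrame L (f ⁻¹ᵁ U) e) :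
    IsFrame ((Scheme.Modules.pushforward f).obj L) U e := by
  intro V h
  exact (he (f ⁻¹ᵁ V) (f.preimage_mono h)).comp (Function.Bijective.piMap fun _ => hf V)

/-- The counit `f^* f_* L ⟶ L` is bijective below `f⁻¹ U` when `L` has a frame there. -/
theorem IsFrame.counit_bijective (f : X ⟶ Y) (hf : ∀ U : Y.Opens, Function.Bijective (f.app U))
    {L : X.Modules} {U : Y.Opens} {n : ℕ} {e : Fin n → Γ(L, f ⁻¹ᵁ U)}
    (he : IsFrame L (f ⁻¹ᵁ U) e) (V : X.Opens) (h : V ≤ f ⁻¹ᵁ U) :
    Function.Bijective (((Scheme.Modules.pullbackPushforwardAdjunction f).counit.app L).app V) := by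
  let N := (Scheme.Modules.pushforward f).obj L
  let ε : (Scheme.Modules.pullback f).obj N ⟶ L :=
    (Scheme.Modules.pullbackPushforwardAdjunction f).counit.app L
  have hN : IsFrame N U (show Fin n → Γ(N, U) from e) := IsFrame.pushforward f hf he
  have htri : ∀ m : Γ(N, U), ε.app (f ⁻¹ᵁ U) (unitSec f N U m) = (show Γ(L, f ⁻¹ᵁ U) from m) :=
    fun m => congrArg (fun φ : N ⟶ N => Scheme.Modules.Hom.app φ U m)
      ((Scheme.Modules.pullbackPushforwardAdjunction f).right_triangle_components L)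
  have key : ε.app V ∘ comb ((Scheme.Modules.pullback f).obj N)
      (fun i => unitSec f N U (e i)) h = comb L e h := by
    funext a
    simp only [Function.comp_apply, comb, map_sum, Scheme.Modules.Hom.app_smul]
    refine Finset.sum_congr rfl fun i _ => congrArg (a i • ·) ?_
    exact (NatTrans.naturality_apply ε.mapPresheaf (homOfLE h).op _).trans
      (congrArg (L.presheaf.map (homOfLE h).op) (htri (e i)))
  have h1 := he V h
  rw [← key] at h1
  exact (Function.Bijective.of_comp_iff _ ((hN.pullback f) V h)).1 h1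

theorem isInvertible_structureModule (X : Scheme.{u}) : PicF.IsInvertible (Coh.structureModule X) :=
  fun _ => ⟨⊤, trivial, ⟨Scheme.Modules.restrictUnitIso _⟩⟩

end Groth.Agent.LFFrame
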